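import Cfsg.Agent.Coherence.Criteria
import Cfsg.Agent.CharArith.Basic
import Cfsg.Agent.Char.Linear

/-!
# Three linear characters from norm three virtual characters and involution products

Input: virtual characters with a prescribed Gram matrix, vanishing at `1`, with vanishing sum over
an invariant set `I` and prescribed sums over `I × I`.  Output: linear characters.
-/

set_option linter.style.haveILetI false

namespace Cfsg.Agent.Char108

open scoped ComplexConjugate
open Cfsg.Agent.Coherence (SIrr)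

universe u

variable {G : Type u} [Group G] [Fintype G] (I : Finset G)

/-- Sum over `I`. -/
def sumI (θ : G → ℂ) : ℂ := ∑ u ∈ I, θ u

/-- Sum over `I × I` of values at the product. -/
def sumII (θ : G → ℂ) : ℂ := ∑ u ∈ I, ∑ v ∈ I, θ (u * v)

variable {I}

theorem sumI_add (θ η : G → ℂ) : sumI I (θ + η) = sumI I θ + sumI I η := Finset.sum_add_distrib
theorem sumI_neg (θ : G → ℂ) : sumI I (-θ) = -sumI I θ := Finset.sum_neg_distrib ..
theorem sumI_one : sumI I (fun _ : G => (1 : ℂ)) = (I.card : ℂ) := by simp [sumI]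

theorem sumII_add (θ η : G → ℂ) : sumII I (θ + η) = sumII I θ + sumII I η := by
  simp [sumII, Finset.sum_add_distrib]

theorem sumII_neg (θ : G → ℂ) : sumII I (-θ) = -sumII I θ := by
  simp [sumII, Finset.sum_neg_distrib]

theorem sumII_one : sumII I (fun _ : G => (1 : ℂ)) = (I.card : ℂ) ^ 2 := by simp [sumII]; ring

variable (hI : ∀ a : G, ∀ u ∈ I, a * u * a⁻¹ ∈ I)

include hI in
theorem sumII_irr {χ : G → ℂ} (h : IsIrrCharacter G χ) : χ 1 * sumII I χ = sumI I χ ^ 2 := by
  classical
  have hG : (Nat.card G : ℂ) ≠ 0 := Nat.cast_ne_zero.2 Nat.card_pos.ne'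
  have hv : ∀ v : G, χ 1 * ∑ u ∈ I, χ (u * v) = sumI I χ * χ v := by
    intro v
    refine mul_left_cancel₀ hG ?_
    have h1 : ∀ a : G, ∑ u ∈ I, χ (u * v) = ∑ u ∈ I, χ (a * u * a⁻¹ * v) := fun a =>
      Finset.sum_nbij' (fun u => a⁻¹ * u * a) (fun u => a * u * a⁻¹)
        (fun u hu => by simpa using hI a⁻¹ u hu) (fun u hu => hI a u hu)
        (fun u _ => by simp [mul_assoc]) (fun u _ => by simp [mul_assoc])
        (fun u _ => by simp [mul_assoc])
    calc (Nat.card G : ℂ) * (χ 1 * ∑ u ∈ I, χ (u * v))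
        = χ 1 * ∑ a : G, ∑ u ∈ I, χ (a * u * a⁻¹ * v) := by
          rw [← Finset.sum_congr rfl (fun a _ => h1 a), Finset.sum_const, Finset.card_univ,
            nsmul_eq_mul, ← Nat.card_eq_fintype_card]
          ring
      _ = ∑ u ∈ I, χ 1 * ∑ a : G, χ (a * u * a⁻¹ * v) := by
          rw [Finset.sum_comm, Finset.mul_sum]
      _ = (Nat.card G : ℂ) * (sumI I χ * χ v) := by
          rw [sumI, Finset.sum_mul, Finset.mul_sum]
          exact Finset.sum_congr rfl fun u _ => by rw [CharArith.classMult h u v]; ring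
  rw [sumII, Finset.sum_comm, Finset.mul_sum, Finset.sum_congr rfl fun v _ => hv v, sq]
  rw [← Finset.mul_sum]
  rfl

variable (I) in
/-- The ratio of the sum over `I` to the degree. -/
noncomputable def rat (θ : G → ℂ) : ℂ := sumI I θ / θ 1

theorem sumI_eq {θ : G → ℂ} (h : SIrr G θ) : sumI I θ = rat I θ * θ 1 := by
  rw [rat, div_mul_cancel₀ _ h.apply_one_ne_zero]

include hI in
theorem sumII_eq {θ : G → ℂ} (h : SIrr G θ) : sumII I θ = rat I θ ^ 2 * θ 1 := by
  have key : θ 1 * sumII I θ = sumI I θ ^ 2 := by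
    rcases h with h | h
    · exact sumII_irr hI h
    · have := sumII_irr hI h
      rw [sumII_neg, sumI_neg, Pi.neg_apply] at this
      linear_combination this
  rw [sumI_eq h] at key
  exact mul_left_cancel₀ h.apply_one_ne_zero (by linear_combination key)

theorem rat_neg (θ : G → ℂ) : rat I (-θ) = rat I θ := by
  rw [rat, rat, sumI_neg, Pi.neg_apply, neg_div_neg_eq]

theorem rat_eq_of_inner {x y : G → ℂ} (hx : SIrr G x) (hy : SIrr G y)
    (h : classInner x y ≠ 0) : rat I x = rat I y := by
  rcases hx.inner_cases hy with h0 | ⟨rfl, -⟩ | ⟨rfl, -⟩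
  · exact absurd h0 h
  · rfl
  · exact rat_neg y

theorem inner_eq_zero_of_rat {x y : G → ℂ} (hx : SIrr G x) (hy : SIrr G y)
    (h : rat I x ≠ rat I y) : classInner x y = 0 :=
  by_contra fun h0 => h (rat_eq_of_inner hx hy h0)

theorem inner_int {x y : G → ℂ} (hx : IsGeneralizedCharacter G x) (hy : IsGeneralizedCharacter G y) :
    classInner y x = classInner x y := by
  obtain ⟨k, hk⟩ := Char.classInner_generalized_int hx hy
  rw [← Char.classInner_conj_symm, hk, map_intCast]

/-- A generalized character of norm two or three has a signed irreducible constituent. -/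
theorem peel {θ : G → ℂ} (h : IsGeneralizedCharacter G θ) {k : ℕ} (hk : k = 2 ∨ k = 3)
    (hn : classInner θ θ = (k : ℂ)) : ∃ x, SIrr G x ∧ classInner x (θ - x) = 0 ∧
      classInner (θ - x) (θ - x) = (k : ℂ) - 1 := by
  obtain ⟨m, hm, -, he⟩ := Char.IsGen.exists_mult h
  rw [hn] at he
  have hs : ∑ ψ, m ψ ^ 2 = (k : ℤ) := by exact_mod_cast he.symm
  obtain ⟨ψ, hψ⟩ : ∃ ψ, m ψ ≠ 0 := by
    by_contra! hall
    simp [hall] at hs
    omega
  have h3 : m ψ ^ 2 ≤ (k : ℤ) :=
    hs ▸ Finset.single_le_sum (fun i _ => sq_nonneg (m i)) (Finset.mem_univ ψ)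
  have hk' : (k : ℤ) ≤ 3 := by omega
  have hc : m ψ = 1 ∨ m ψ = -1 := by
    have : -1 ≤ m ψ := by nlinarith
    have : m ψ ≤ 1 := by nlinarith
    omega
  have hψs : SIrr G (ψ : G → ℂ) := Or.inl ψ.2
  rcases hc with e | e
  · refine ⟨ψ, hψs, ?_, ?_⟩ <;>
      simp only [Char.classInner_sub_left, Char.classInner_sub_right, hψs.inner_self, hn,
        inner_int h hψs.isGeneralized, hm ψ, e] <;> push_cast <;> ring
  · refine ⟨-(ψ : G → ℂ), hψs.neg, ?_, ?_⟩ <;>
      simp only [Char.classInner_sub_left, Char.classInner_sub_right, Char.classInner_neg_left,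
        Char.classInner_neg_right, hψs.inner_self, hn,
        inner_int h hψs.isGeneralized, hm ψ, e] <;> push_cast <;> ring

theorem sirr_of_norm_one {θ : G → ℂ} (h : IsGeneralizedCharacter G θ)
    (h1 : classInner θ θ = 1) : SIrr G θ := by
  obtain ⟨ψ, e | e⟩ := Char.IsGen.eq_pm_irr h h1
  · exact e ▸ Or.inl ψ.2
  · exact e ▸ Or.inr (by rw [neg_neg]; exact ψ.2)

theorem decomp_two {θ : G → ℂ} (h : IsGeneralizedCharacter G θ) (h2 : classInner θ θ = 2) :
    ∃ x y, SIrr G x ∧ SIrr G y ∧ classInner x y = 0 ∧ θ = x + y := by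
  obtain ⟨x, hx, ho, hn⟩ := peel h (Or.inl rfl) (by rw [h2]; norm_num)
  exact ⟨x, θ - x, hx, sirr_of_norm_one (Char.isGeneralized_sub h hx.isGeneralized)
    (by rw [hn]; norm_num), ho, (add_sub_cancel x θ).symm⟩

include hI in
/-- A norm three character with vanishing degree, sum and double sum has constant ratio. -/
theorem pure {w : G → ℂ} (h : IsGeneralizedCharacter G w) (h3 : classInner w w = 3)
    (h1 : w 1 = 0) (hS : sumI I w = 0) (hL : sumII I w = 0) :
    ∃ r, ∀ ξ, SIrr G ξ → classInner w ξ ≠ 0 → rat I ξ = r := by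
  obtain ⟨x, hx, -, hn⟩ := peel h (Or.inr rfl) (by rw [h3]; norm_num)
  obtain ⟨y, z, hy, hz, -, e⟩ := decomp_two (Char.isGeneralized_sub h hx.isGeneralized)
    (by rw [hn]; norm_num)
  obtain rfl : w = x + (y + z) := by rw [← e, add_sub_cancel]
  simp only [Pi.add_apply] at h1
  rw [sumI_add, sumI_add, sumI_eq hx, sumI_eq hy, sumI_eq hz] at hS
  rw [sumII_add, sumII_add, sumII_eq hI hx, sumII_eq hI hy, sumII_eq hI hz] at hL
  set a := rat I x
  set b := rat I y
  set c := rat I z
  have hxd := hx.apply_one_ne_zero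
  have hyd := hy.apply_one_ne_zero
  have hzd := hz.apply_one_ne_zero
  have ex : (a - b) * (a - c) = 0 := by
    refine (mul_eq_zero.1 (?_ : x 1 * ((a - b) * (a - c)) = 0)).resolve_left hxd
    linear_combination hL - (b + c) * hS + b * c * h1
  have ey : (b - a) * (b - c) = 0 := by
    refine (mul_eq_zero.1 (?_ : y 1 * ((b - a) * (b - c)) = 0)).resolve_left hyd
    linear_combination hL - (a + c) * hS + a * c * h1
  have ez : (c - a) * (c - b) = 0 := by
    refine (mul_eq_zero.1 (?_ : z 1 * ((c - a) * (c - b)) = 0)).resolve_left hzd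
    linear_combination hL - (a + b) * hS + a * b * h1
  have hab : b = a ∧ c = a := by
    simp only [mul_eq_zero, sub_eq_zero] at ex ey ez
    rcases ex with e1 | e1
    · refine ⟨e1.symm, ?_⟩
      rcases ez with e2 | e2
      · exact e2
      · exact e2.trans e1.symm
    · refine ⟨?_, e1.symm⟩
      rcases ey with e2 | e2
      · exact e2
      · exact e2.trans e1.symm
  refine ⟨a, fun ξ hξ hne => ?_⟩
  rw [Char.classInner_add_left, Char.classInner_add_left] at hne
  rcases ne_or_eq (classInner x ξ) 0 with h' | h'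
  · exact (rat_eq_of_inner hx hξ h').symm
  rcases ne_or_eq (classInner y ξ) 0 with h'' | h''
  · exact (rat_eq_of_inner hy hξ h'').symm.trans hab.1
  rw [h', h'', zero_add, zero_add] at hne
  exact (rat_eq_of_inner hz hξ hne).symm.trans hab.2

theorem other_one : ∀ i : Fin 3, ∃ j : Fin 3, j ≠ i := by decide

theorem other_two : ∀ i j : Fin 3, ∃ k : Fin 3, k ≠ i ∧ k ≠ j := by decide

theorem shift_cases : ∀ i j : Fin 3, j = i ∨ j = i + 1 ∨ j = i + 2 := by decide

theorem shift_ne : ∀ i : Fin 3, i + 1 ≠ i + 2 ∧ i ≠ i + 1 ∧ i ≠ i + 2 := by decide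

variable (I) in
/-- The input data. -/
structure Data where
  v : Fin 3 → G → ℂ
  w : Fin 3 → G → ℂ
  b : G → ℂ
  K : ℂ
  hK : K ≠ 0
  gen_v : ∀ i, IsGeneralizedCharacter G (v i)
  gen_w : ∀ i, IsGeneralizedCharacter G (w i)
  gen_b : IsGeneralizedCharacter G b
  vv : ∀ i j, classInner (v i) (v j) = if i = j then 3 else 1
  ww : ∀ i j, classInner (w i) (w j) = if i = j then 3 else 1
  vw : ∀ i j, classInner (v i) (w j) = if i = j then 0 else 1
  v_one : ∀ i, classInner (v i) (fun _ => 1) = 1
  w_one : ∀ i, classInner (w i) (fun _ => 1) = 0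
  b_one : classInner b (fun _ => 1) = 0
  bb : classInner b b = 3
  bv : ∀ i, classInner b (v i) = if i = 0 then -1 else 0
  bw : ∀ i, classInner b (w i) = if i = 0 then -1 else 0
  v_deg : ∀ i, v i 1 = 0
  w_deg : ∀ i, w i 1 = 0
  b_deg : b 1 = 0
  v_sum : ∀ i, sumI I (v i) = 0
  w_sum : ∀ i, sumI I (w i) = 0
  b_sum : sumI I b = 0
  v_pairs : ∀ i, sumII I (v i) = 2 * K
  w_pairs : ∀ i, sumII I (w i) = 0
  b_pairs : sumII I b = K

namespace Data

variable (D : Data I)

omit [Fintype G] in
theorem one_sirr : SIrr G (fun _ => (1 : ℂ)) := Or.inl Char.isIrrCharacter_one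

theorem one_one : classInner (fun _ : G => (1 : ℂ)) (fun _ => 1) = 1 :=
  (one_sirr (G := G)).inner_self

include hI in
/-- The common ratio, and the constituents of the `v i`. -/
theorem exists_AB : ∃ (r : ℂ) (A B : Fin 3 → G → ℂ), (∀ i, SIrr G (A i)) ∧ (∀ i, SIrr G (B i)) ∧
    (∀ i, classInner (A i) (B i) = 0) ∧ (∀ i, D.v i = (fun _ => 1) + A i + B i) ∧
    (∀ i, rat I (A i) = r) ∧ (∀ i, rat I (B i) ≠ r) ∧
    (∀ i ξ, SIrr G ξ → classInner (D.w i) ξ ≠ 0 → rat I ξ = r) := by
  choose r hr using fun i => pure hI (D.gen_w i) (by rw [D.ww, if_pos rfl]) (D.w_deg i)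
    (D.w_sum i) (D.w_pairs i)
  have hrr : ∀ i j, r i = r j := by
    intro i j
    by_cases hij : i = j
    · rw [hij]
    obtain ⟨x, hx, -, hn⟩ := peel (D.gen_w i) (Or.inr rfl) (by rw [D.ww, if_pos rfl]; norm_num)
    obtain ⟨y, z, hy, hz, hyz, e⟩ := decomp_two
      (Char.isGeneralized_sub (D.gen_w i) hx.isGeneralized) (by rw [hn]; norm_num)
    obtain ⟨m, -, he, -⟩ := Char.IsGen.exists_mult (D.gen_w i)
    have h1 : classInner (D.w j) (D.w i) = 1 := by rw [D.ww, if_neg (Ne.symm hij)]
    conv_lhs at h1 => arg 2; rw [he]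
    rw [Char.classInner_sum_right] at h1
    obtain ⟨ψ, -, hψ⟩ := Finset.exists_ne_zero_of_sum_ne_zero (h1 ▸ one_ne_zero)
    rw [Char.classInner_smul_right, mul_ne_zero_iff] at hψ
    have hs : SIrr G (ψ : G → ℂ) := Or.inl ψ.2
    refine (hr i _ hs ?_).symm.trans (hr j _ hs hψ.2)
    rw [he, Char.classInner_sum_left, Finset.sum_eq_single ψ]
    · rw [Char.classInner_smul_left, hs.inner_self, mul_one]
      simpa using hψ.1
    · intro φ _ hφ
      rw [Char.classInner_smul_left,
        Char.classInner_irr_ne φ.2 ψ.2 (fun e => hφ (Subtype.ext e)), mul_zero]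
    · simp
  have key : ∀ i, ∃ A B, SIrr G A ∧ SIrr G B ∧ classInner A B = 0 ∧
      D.v i = (fun _ => 1) + A + B ∧ rat I A = r 0 ∧ rat I B ≠ r 0 := by
    intro i
    have g1 := Char.isGeneralized_sub (D.gen_v i) (one_sirr (G := G)).isGeneralized
    obtain ⟨x, y, hx, hy, hxy, e⟩ := decomp_two g1 (by
      rw [Char.classInner_sub_left, Char.classInner_sub_right, Char.classInner_sub_right,
        D.vv, if_pos rfl, D.v_one, inner_int (D.gen_v i) (one_sirr (G := G)).isGeneralized,
        D.v_one, one_one]; ring)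
    have e' : D.v i = (fun _ => 1) + x + y := by rw [add_assoc, ← e, add_sub_cancel]
    have hne : rat I x ≠ rat I y := by
      intro he
      have h1 := D.v_deg i
      have h2 := D.v_sum i
      have h3 := D.v_pairs i
      rw [e'] at h1 h2 h3
      simp only [Pi.add_apply] at h1
      rw [sumI_add, sumI_add, sumI_one, sumI_eq hx, sumI_eq hy, ← he] at h2
      rw [sumII_add, sumII_add, sumII_one, sumII_eq hI hx, sumII_eq hI hy, ← he] at h3
      have h4 : rat I x = (I.card : ℂ) := by
        linear_combination -h2 + (rat I x) * h1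
      rw [h4] at h3
      exact D.hK (by linear_combination -(1 / 2 : ℂ) * h3 + (1 / 2 : ℂ) * (I.card : ℂ) ^ 2 * h1)
    obtain ⟨j, hj⟩ := other_one i
    have h1 : classInner (D.w j) (D.v i) = 1 := by
      rw [inner_int (D.gen_v i) (D.gen_w j), D.vw, if_neg (Ne.symm hj)]
    rw [e', Char.classInner_add_right, Char.classInner_add_right, D.w_one, zero_add] at h1
    rcases ne_or_eq (classInner (D.w j) x) 0 with h | h
    · have hxr := (hr j x hx h).trans (hrr j 0)
      exact ⟨x, y, hx, hy, hxy, e', hxr, fun he => hne (hxr.trans he.symm)⟩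
    · rw [h, zero_add] at h1
      have hyr := (hr j y hy (h1 ▸ one_ne_zero)).trans (hrr j 0)
      exact ⟨y, x, hy, hx, Coherence.inner_eq_zero_comm hxy,
        by rw [e', add_right_comm], hyr, fun he => hne (he.trans hyr.symm)⟩
  choose A B hA hB hAB he hAr hBr using key
  exact ⟨r 0, A, B, hA, hB, hAB, he, hAr, hBr,
    fun i ξ hξ h => (hr i ξ hξ h).trans (hrr i 0)⟩

include hI in
/-- The three linear characters. -/
theorem exists_linear : ∃ A : Fin 3 → G → ℂ, (∀ i, IsIrrCharacter G (A i) ∧ A i 1 = 1) ∧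
    ∀ i j, classInner (A i) (D.v j) = if i = j then 1 else 0 := by
  classical
  obtain ⟨r, A, B, hA, hB, hAB, he, hAr, hBr, hw⟩ := D.exists_AB hI
  have hwB : ∀ i j, classInner (D.w i) (B j) = 0 := fun i j =>
    by_contra fun h => hBr j (hw i _ (hB j) h)
  have hwA : ∀ i j, classInner (D.w i) (A j) = if i = j then 0 else 1 := by
    intro i j
    have h1 : classInner (D.w i) (D.v j) = if j = i then 0 else 1 := by
      rw [inner_int (D.gen_v j) (D.gen_w i), D.vw]
    rw [he j, Char.classInner_add_right, Char.classInner_add_right, D.w_one, hwB, zero_add,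
      add_zero] at h1
    simp only [eq_comm (a := i)]
    exact h1
  have hab : ∀ i j, classInner (A i) (B j) = 0 := fun i j =>
    inner_eq_zero_of_rat (I := I) (hA i) (hB j) (by rw [hAr]; exact (hBr j).symm)
  have hba : ∀ i j, classInner (B i) (A j) = 0 := fun i j =>
    Coherence.inner_eq_zero_comm (hab j i)
  have h1A : ∀ i, classInner (fun _ : G => (1 : ℂ)) (A i) = 0 ∧
      classInner (fun _ : G => (1 : ℂ)) (B i) = 0 := by
    intro i
    have h1 := D.v_one i
    rw [he i, Char.classInner_add_left, Char.classInner_add_left, one_one] at h1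
    have h2 : classInner (A i) (fun _ => 1) + classInner (B i) (fun _ => 1) = 0 := by
      linear_combination h1
    obtain ⟨j, hj⟩ := other_one i
    have hz : classInner (A i) (fun _ => 1) = 0 := by
      rcases (hA i).inner_cases (one_sirr (G := G)) with h | ⟨h, -⟩ | ⟨h, -⟩
      · exact h
      · exfalso
        have := hwA j i
        rw [h, D.w_one, if_neg hj] at this
        exact zero_ne_one this
      · exfalso
        have := hwA j i
        rw [h, Char.classInner_neg_right, D.w_one, if_neg hj, neg_zero] at this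
        exact zero_ne_one this
    rw [hz, zero_add] at h2
    exact ⟨Coherence.inner_eq_zero_comm hz, Coherence.inner_eq_zero_comm h2⟩
  have hA1 : ∀ i, classInner (A i) (fun _ => 1) = 0 := fun i =>
    Coherence.inner_eq_zero_comm (h1A i).1
  have hB1 : ∀ i, classInner (B i) (fun _ => 1) = 0 := fun i =>
    Coherence.inner_eq_zero_comm (h1A i).2
  have hcross : ∀ i j, i ≠ j → classInner (A i) (A j) = 0 ∧ classInner (B i) (B j) = 0 := by
    intro i j hij
    have h1 := D.vv i j
    rw [if_neg hij, he i, he j] at h1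
    simp only [Char.classInner_add_left, Char.classInner_add_right, one_one, hA1, hB1,
      (h1A j).1, (h1A j).2, hab, hba] at h1
    have hs : classInner (A i) (A j) + classInner (B i) (B j) = 0 := by linear_combination h1
    have hz : classInner (A i) (A j) = 0 := by
      obtain ⟨k, hki, hkj⟩ := other_two i j
      have hi := hwA k i
      have hj := hwA k j
      rw [if_neg hki] at hi
      rw [if_neg hkj] at hj
      rcases (hA i).inner_cases (hA j) with h | ⟨h, h'⟩ | ⟨h, -⟩
      · exact h
      · exfalso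
        rw [h'] at hs
        rcases (hB i).inner_cases (hB j) with g | ⟨-, g⟩ | ⟨g, -⟩
        · rw [g] at hs; norm_num at hs
        · rw [g] at hs; norm_num at hs
        · have d1 := D.v_deg i
          have d2 := D.v_deg j
          rw [he i] at d1
          rw [he j] at d2
          simp only [Pi.add_apply, h, g, Pi.neg_apply] at d1 d2
          exact (hB j).apply_one_ne_zero (by linear_combination (1 / 2 : ℂ) * d2 - (1 / 2 : ℂ) * d1)
      · exfalso
        rw [h, Char.classInner_neg_right, hj] at hi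
        norm_num at hi
    exact ⟨hz, by rwa [hz, zero_add] at hs⟩
  have hAA : ∀ i j, classInner (A i) (A j) = if i = j then 1 else 0 := by
    intro i j
    split_ifs with h
    · rw [h, (hA j).inner_self]
    · exact (hcross i j h).1
  have hAv : ∀ i j, classInner (A i) (D.v j) = if i = j then 1 else 0 := by
    intro i j
    rw [he j, Char.classInner_add_right, Char.classInner_add_right, hA1, hab, hAA, zero_add,
      add_zero]
  have hAw : ∀ i j, classInner (A i) (D.w j) = if i = j then 0 else 1 := by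
    intro i j
    rw [inner_int (D.gen_w j) (hA i).isGeneralized, hwA]
    simp only [eq_comm (a := j)]
  -- the third constituents
  set Z : Fin 3 → G → ℂ := fun i => D.w i - A (i + 1) - A (i + 2) with hZdef
  have h12 := shift_ne
  have hZ : ∀ i, SIrr G (Z i) := by
    intro i
    refine sirr_of_norm_one (Char.isGeneralized_sub (Char.isGeneralized_sub (D.gen_w i)
      (hA _).isGeneralized) (hA _).isGeneralized) ?_
    obtain ⟨a, b, c⟩ := h12 i
    simp only [hZdef, Char.classInner_sub_left, Char.classInner_sub_right, D.ww, hwA, hAw, hAA,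
      if_neg a, if_neg a.symm, if_neg b, if_neg b.symm, if_neg c, if_neg c.symm, if_pos rfl, if_true]
    ring
  have hZA : ∀ i j, classInner (Z i) (A j) = 0 := by
    intro i j
    simp only [hZdef, Char.classInner_sub_left, hwA, hAA]
    obtain ⟨a, b, c⟩ := h12 i
    rcases shift_cases i j with rfl | rfl | rfl
    · simp only [if_neg b.symm, if_neg c.symm, if_pos rfl, if_true]; ring
    · simp only [if_neg b, if_neg a.symm, if_pos rfl, if_true]; ring
    · simp only [if_neg c, if_neg a, if_pos rfl, if_true]; ring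
  have hZw : ∀ i j, classInner (Z i) (D.w j) = if i = j then 1 else 0 := by
    intro i j
    simp only [hZdef, Char.classInner_sub_left, D.ww, hAw]
    obtain ⟨a, b, c⟩ := h12 i
    rcases shift_cases i j with rfl | rfl | rfl
    · simp only [if_neg b.symm, if_neg c.symm, if_pos rfl, if_true]; ring
    · simp only [if_neg b, if_neg a.symm, if_pos rfl, if_true]; ring
    · simp only [if_neg c, if_neg a, if_pos rfl, if_true]; ring
  have hrZ : ∀ i, rat I (Z i) = r := fun i => hw i _ (hZ i) (by
    rw [inner_int (hZ i).isGeneralized (D.gen_w i), hZw, if_pos rfl]; exact one_ne_zero)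
  have hZZ : ∀ i j, classInner (Z i) (Z j) = if i = j then 1 else 0 := by
    intro i j
    rw [show Z j = D.w j - A (j + 1) - A (j + 2) from rfl]
    rw [Char.classInner_sub_right, Char.classInner_sub_right, hZw, hZA, hZA, sub_zero, sub_zero]
  have hZB : ∀ i j, classInner (Z i) (B j) = 0 := fun i j =>
    inner_eq_zero_of_rat (I := I) (hZ i) (hB j) (by rw [hrZ]; exact (hBr j).symm)
  have hAZ : ∀ i j, classInner (A i) (Z j) = 0 := fun i j =>
    Coherence.inner_eq_zero_comm (hZA j i)
  have hBZ : ∀ i j, classInner (B i) (Z j) = 0 := fun i j =>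
    Coherence.inner_eq_zero_comm (hZB j i)
  have hBB : ∀ i j, classInner (B i) (B j) = if i = j then 1 else 0 := by
    intro i j
    split_ifs with h
    · rw [h, (hB j).inner_self]
    · exact (hcross i j h).2
  -- multiplicities in `b`
  choose a ha using fun i => Char.classInner_generalized_int D.gen_b (hA i).isGeneralized
  choose c hc using fun i => Char.classInner_generalized_int D.gen_b (hB i).isGeneralized
  choose z hz using fun i => Char.classInner_generalized_int D.gen_b (hZ i).isGeneralized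
  have hac : ∀ i, a i + c i = if i = 0 then -1 else 0 := by
    intro i
    have h1 := D.bv i
    rw [he i, Char.classInner_add_right, Char.classInner_add_right, D.b_one, ha, hc, zero_add] at h1
    split_ifs at h1 ⊢ <;> exact_mod_cast h1
  have haz : ∀ i, a (i + 1) + a (i + 2) + z i = if i = 0 then -1 else 0 := by
    intro i
    have e : D.w i = A (i + 1) + A (i + 2) + Z i := by simp only [hZdef]; abel
    have h1 := D.bw i
    rw [e, Char.classInner_add_right, Char.classInner_add_right, ha, ha, hz] at h1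
    split_ifs at h1 ⊢ <;> exact_mod_cast h1
  have hbes : ∑ i, (a i ^ 2 + c i ^ 2 + z i ^ 2) ≤ 3 := by
    let f : Fin 3 × Fin 3 → G → ℂ := fun p => ![A, B, Z] p.1 p.2
    have hf : ∀ p, SIrr G (f p) := by
      rintro ⟨k, i⟩; fin_cases k
      exacts [hA i, hB i, hZ i]
    have ho : ∀ p q, p ≠ q → classInner (f p) (f q) = 0 := by
      rintro ⟨k, i⟩ ⟨l, j⟩ hne
      fin_cases k <;> fin_cases l <;>
        simp_all [f, hAA, hBB, hZZ, hab, hba, hZA, hAZ, hZB, hBZ]
    have hb := (Coherence.bessel Finset.univ f (fun p _ h0 => (hf p).apply_one_ne_zero (by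
      rw [h0]; rfl)) (fun p _ q _ => ho p q) D.b).1
    rw [D.bb, Fintype.sum_prod_type, Fin.sum_univ_three] at hb
    simp only [f, Matrix.cons_val_zero, Matrix.cons_val_one, Matrix.cons_val_two, Matrix.tail_cons,
      Matrix.head_cons, (hA _).inner_self, (hB _).inner_self, (hZ _).inner_self, ha, hc, hz,
      Complex.one_re, div_one, Complex.norm_intCast, sq_abs, ← Finset.sum_add_distrib] at hb
    have hb' : ((∑ i, (a i ^ 2 + c i ^ 2 + z i ^ 2) : ℤ) : ℝ) ≤ ((3 : ℤ) : ℝ) := by
      push_cast
      simpa using hb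
    exact_mod_cast hb'
  rw [Fin.sum_univ_three] at hbes
  have e0 := hac 0; have e1 := hac 1; have e2 := hac 2
  have f0 := haz 0; have f1 := haz 1; have f2 := haz 2
  simp only [show (0 : Fin 3) + 1 = 1 from rfl, show (0 : Fin 3) + 2 = 2 from rfl,
    show (1 : Fin 3) + 1 = 2 from rfl, show (1 : Fin 3) + 2 = 0 from rfl,
    show (2 : Fin 3) + 1 = 0 from rfl, show (2 : Fin 3) + 2 = 1 from rfl,
    if_pos rfl, if_true, if_false,
    show ((1 : Fin 3) = 0) = False by decide, show ((2 : Fin 3) = 0) = False by decide]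
    at e0 e1 e2 f0 f1 f2
  have hsol : c 0 = -1 ∧ z 0 = -1 := by
    have c0 : c 0 = -1 - a 0 := by omega
    have c1 : c 1 = -a 1 := by omega
    have c2 : c 2 = -a 2 := by omega
    have z0 : z 0 = -1 - a 1 - a 2 := by omega
    have z1 : z 1 = -a 2 - a 0 := by omega
    have z2 : z 2 = -a 0 - a 1 := by omega
    rw [c0, c1, c2, z0, z1, z2] at hbes
    have b0 : -1 ≤ a 0 := by nlinarith
    have b0' : a 0 ≤ 1 := by nlinarith
    have b1 : -1 ≤ a 1 := by nlinarith
    have b1' : a 1 ≤ 1 := by nlinarith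
    have b2 : -1 ≤ a 2 := by nlinarith
    have b2' : a 2 ≤ 1 := by nlinarith
    rw [c0, z0]
    interval_cases (a 0) <;> interval_cases (a 1) <;> interval_cases (a 2) <;> revert hbes <;> norm_num
  -- the last constituent of `b`
  have hBb : classInner D.b (B 0) = -1 := by rw [hc, hsol.1]; norm_num
  have hZb : classInner D.b (Z 0) = -1 := by rw [hz, hsol.2]; norm_num
  have hR : SIrr G (D.b + B 0 + Z 0) := by
    refine sirr_of_norm_one (Char.isGeneralized_add (Char.isGeneralized_add D.gen_b
      (hB 0).isGeneralized) (hZ 0).isGeneralized) ?_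
    simp only [Char.classInner_add_left, Char.classInner_add_right, D.bb, hBb, hZb,
      inner_int D.gen_b (hB 0).isGeneralized, inner_int D.gen_b (hZ 0).isGeneralized,
      (hB 0).inner_self, (hZ 0).inner_self, hZB, hBZ]
    norm_num
  set R := D.b + B 0 + Z 0 with hRdef
  -- degrees
  set N := (I.card : ℂ)
  have hNr : N ≠ r ∧ ∀ i, 1 + A i 1 ≠ 0 ∧
      2 * D.K * (1 + A i 1) = A i 1 * (N - r) ^ 2 := by
    have main : ∀ i, 1 + A i 1 ≠ 0 ∧ 2 * D.K * (1 + A i 1) = A i 1 * (N - r) ^ 2 := by
      intro i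
      have h1 := D.v_deg i
      have h2 := D.v_sum i
      have h3 := D.v_pairs i
      rw [he i] at h1 h2 h3
      simp only [Pi.add_apply] at h1
      rw [sumI_add, sumI_add, sumI_one, sumI_eq (hA i), sumI_eq (hB i), hAr] at h2
      rw [sumII_add, sumII_add, sumII_one, sumII_eq hI (hA i), sumII_eq hI (hB i), hAr] at h3
      refine ⟨fun h0 => (hB i).apply_one_ne_zero (by linear_combination h1 - h0), ?_⟩
      linear_combination -(1 + A i 1) * h3 + rat I (B i) ^ 2 * B i 1 * h1 -
        (rat I (B i) * B i 1 - N - r * A i 1) * h2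
    refine ⟨fun e => ?_, main⟩
    have := (main 0).2
    rw [e, sub_self, zero_pow two_ne_zero, mul_zero] at this
    exact mul_ne_zero (mul_ne_zero two_ne_zero D.hK) (main 0).1 this
  obtain ⟨hNr, hdeg⟩ := hNr
  have hsq : (N - r) ^ 2 ≠ 0 := pow_ne_zero _ (sub_ne_zero.2 hNr)
  have heq : ∀ i, A i 1 = A 0 1 := by
    intro i
    refine mul_left_cancel₀ hsq ?_
    obtain ⟨p, hp⟩ := hdeg i
    obtain ⟨q, hq⟩ := hdeg 0
    linear_combination -(1 + A 0 1) * hp + (1 + A i 1) * hq
  have hd : A 0 1 = 1 := by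
    set d := A 0 1 with hd0
    have zdeg : Z 0 1 = -(2 * d) := by
      have h1 := D.w_deg 0
      simp only [hZdef, Pi.sub_apply, h1, heq]
      ring
    have zS : sumI I (Z 0) = -(2 * d) * r := by rw [sumI_eq (hZ 0), hrZ, zdeg]; ring
    have v1 := D.v_deg 0
    have v2 := D.v_sum 0
    rw [he 0] at v1 v2
    simp only [Pi.add_apply] at v1
    rw [sumI_add, sumI_add, sumI_one, sumI_eq (hA 0), sumI_eq (hB 0), hAr] at v2
    have b1 : R 1 = B 0 1 + Z 0 1 := by
      simp only [hRdef, Pi.add_apply, D.b_deg]; ring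
    have b2 : rat I R * R 1 = rat I (B 0) * B 0 1 + r * Z 0 1 := by
      rw [← sumI_eq hR, hRdef, sumI_add, sumI_add, D.b_sum, sumI_eq (hB 0), sumI_eq (hZ 0), hrZ]
      ring
    have b3 : rat I R ^ 2 * R 1 = D.K + rat I (B 0) ^ 2 * B 0 1 + r ^ 2 * Z 0 1 := by
      rw [← sumII_eq hI hR, hRdef, sumII_add, sumII_add, D.b_pairs, sumII_eq hI (hB 0),
        sumII_eq hI (hZ 0), hrZ]
    have hB1' : B 0 1 = -(1 + d) := by linear_combination v1
    rw [hB1'] at b1 b2 b3 v2
    rw [zdeg] at b1 b2 b3
    have hR1 : R 1 = -(1 + 3 * d) := by rw [b1]; ring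
    rw [hR1] at b2 b3
    have h3d : 1 + 3 * d ≠ 0 := fun h => hR.apply_one_ne_zero (by rw [hR1, h, neg_zero])
    obtain ⟨q, hq⟩ := hdeg 0
    rw [← hd0] at q hq
    set s := rat I (B 0)
    set t := rat I R
    have hs : s * (1 + d) = N + r * d := by linear_combination -v2
    have ht : t * (1 + 3 * d) = N + 3 * r * d := by linear_combination -b2 + hs
    have hKb : D.K * (1 + d) * (1 + 3 * d) = 2 * d * (N - r) ^ 2 := by
      linear_combination -(1 + d) * (1 + 3 * d) * b3 +
        (1 + 3 * d) * (s * (1 + d) + N + r * d) * hs -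
        (1 + d) * (t * (1 + 3 * d) + N + 3 * r * d) * ht
    have : (d - 1) * (D.K * (1 + d)) = 0 := by
      linear_combination (1 / 3 : ℂ) * hKb - (2 / 3 : ℂ) * hq
    exact sub_eq_zero.1 ((mul_eq_zero.1 this).resolve_right (mul_ne_zero D.hK q))
  refine ⟨A, fun i => ⟨?_, (heq i).trans hd⟩, hAv⟩
  rcases hA i with h | h
  · exact h
  · exfalso
    obtain ⟨n, hn, hn1⟩ := Char.IsIrr.degree h
    rw [Pi.neg_apply, (heq i).trans hd] at hn1
    have : ((n : ℤ) : ℂ) = ((-1 : ℤ) : ℂ) := by push_cast; exact hn1.symm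
    have := Int.cast_injective this
    omega

end Data

end Cfsg.Agent.Char108
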