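import Cfsg.Agent.Char108.Model
import Mathlib.GroupTheory.Perm.Sign
import Mathlib.GroupTheory.Perm.Fin

/-!
# The model as a permutation group on nine points
-/

set_option linter.style.haveILetI false

namespace Cfsg.Agent.Char108

open Equiv

/-- The three-cycles of the blocks. -/
def cyc : Fin 3 → Perm (Fin 9)
  | 0 => swap (0 : Fin 9) 1 * swap 1 2
  | 1 => swap (3 : Fin 9) 4 * swap 4 5
  | 2 => swap (6 : Fin 9) 7 * swap 7 8

/-- Transpositions in the blocks. -/
def trn : Fin 3 → Perm (Fin 9)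
  | 0 => swap (0 : Fin 9) 1
  | 1 => swap (3 : Fin 9) 4
  | 2 => swap (6 : Fin 9) 7

/-- Raw map of one factor. -/
def blockFun (k : Fin 3) : S3 → Perm (Fin 9)
  | .r i => cyc k ^ i.val
  | .sr i => trn k * cyc k ^ i.val

theorem blockFun_mul : ∀ k : Fin 3, ∀ x y : S3, blockFun k (x * y) = blockFun k x * blockFun k y := by
  decide +kernel

theorem blockFun_one : ∀ k : Fin 3, blockFun k 1 = 1 := by decide +kernel

theorem blockFun_comm : ∀ k l : Fin 3, k ≠ l → ∀ x y : S3,
    blockFun k x * blockFun l y = blockFun l y * blockFun k x := by decide +kernel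

/-- The action of a triple. -/
def toPerm : Amb →* Perm (Fin 9) where
  toFun x := blockFun 0 x.1 * blockFun 1 x.2.1 * blockFun 2 x.2.2
  map_one' := by simp [blockFun_one]
  map_mul' x y := by
    simp only [Prod.fst_mul, Prod.snd_mul, blockFun_mul]
    have a := blockFun_comm 0 1 (by decide) y.1 x.2.1
    have b := blockFun_comm 0 2 (by decide) y.1 x.2.2
    have c := blockFun_comm 1 2 (by decide) y.2.1 x.2.2
    calc blockFun 0 x.1 * blockFun 0 y.1 * (blockFun 1 x.2.1 * blockFun 1 y.2.1) *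
          (blockFun 2 x.2.2 * blockFun 2 y.2.2)
        = blockFun 0 x.1 * (blockFun 0 y.1 * blockFun 1 x.2.1) *
          (blockFun 1 y.2.1 * blockFun 2 x.2.2) * blockFun 2 y.2.2 := by simp only [mul_assoc]
      _ = blockFun 0 x.1 * blockFun 1 x.2.1 * (blockFun 0 y.1 * blockFun 2 x.2.2) *
          blockFun 1 y.2.1 * blockFun 2 y.2.2 := by rw [a, c]; simp only [mul_assoc]
      _ = _ := by rw [b]; simp only [mul_assoc]

/-- The five given generators. -/
def gens : Set (Perm (Fin 9)) :=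
  {Equiv.swap (0 : Fin 9) 1 * Equiv.swap 1 2, Equiv.swap (3 : Fin 9) 4 * Equiv.swap 4 5,
    Equiv.swap (6 : Fin 9) 7 * Equiv.swap 7 8,
    Equiv.swap (0 : Fin 9) 1 * Equiv.swap 3 4, Equiv.swap (0 : Fin 9) 1 * Equiv.swap 6 7}

theorem toPerm_gens : toPerm ga.1 = Equiv.swap (0 : Fin 9) 1 * Equiv.swap 1 2 ∧
    toPerm gb.1 = Equiv.swap (3 : Fin 9) 4 * Equiv.swap 4 5 ∧
    toPerm gc.1 = Equiv.swap (6 : Fin 9) 7 * Equiv.swap 7 8 ∧
    toPerm gd.1 = Equiv.swap (0 : Fin 9) 1 * Equiv.swap 3 4 ∧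
    toPerm ge.1 = Equiv.swap (0 : Fin 9) 1 * Equiv.swap 6 7 := by decide +kernel

theorem toPerm_injOn : ∀ x : M, toPerm x.1 = 1 → x = 1 := by decide +kernel

theorem range_eq : (toPerm.comp M.subtype).range = Subgroup.closure gens := by
  obtain ⟨a, b, c, d, e⟩ := toPerm_gens
  apply le_antisymm
  · rintro _ ⟨x, rfl⟩
    rw [MonoidHom.comp_apply, normal_form x]
    simp only [map_mul, map_pow, Subgroup.coe_subtype, a, b, c, d, e]
    have h : ∀ g ∈ gens, ∀ n : ℕ, g ^ n ∈ Subgroup.closure gens := fun g hg n =>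
      pow_mem (Subgroup.subset_closure hg) n
    refine mul_mem (mul_mem (mul_mem (mul_mem (h _ ?_ _) (h _ ?_ _)) (h _ ?_ _)) (h _ ?_ _))
      (h _ ?_ _) <;> simp [gens]
  · rw [Subgroup.closure_le]
    rintro g (rfl | rfl | rfl | rfl | rfl)
    exacts [⟨ga, a⟩, ⟨gb, b⟩, ⟨gc, c⟩, ⟨gd, d⟩, ⟨ge, e⟩]

/-- The model is the given permutation group. -/
noncomputable def modelEquiv : M ≃* Subgroup.closure gens :=
  (MonoidHom.ofInjective (f := toPerm.comp M.subtype)
    ((injective_iff_map_eq_one _).2 toPerm_injOn)).trans (MulEquiv.subgroupCongr range_eq)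

end Cfsg.Agent.Char108
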