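import Cfsg.Agent.Char108.Arith
import Cfsg.Agent.Char108.PermIso
import Cfsg.Agent.Coprime.Generation
import Mathlib.GroupTheory.Transfer

/-!
# A group with a TI normalizer isomorphic to the group of order 108
-/

set_option linter.style.haveILetI false

namespace Cfsg.Agent.Char108

open scoped ComplexConjugate

universe u

variable {G : Type u} [Group G] (H : Subgroup G) (e : H ≃* M)

/-- A function of the model as a function on the subgroup. -/
def pull (θ : M → ℤ) : H → ℂ := fun h => (θ (e h) : ℂ)

variable {H} [Fintype G]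

theorem classInner_pull [Fintype H] (θ η : M → ℤ) :
    classInner (pull H e θ) (pull H e η) = (ip θ η : ℂ) / 108 := by
  rw [classInner, Nat.card_congr e.toEquiv, Nat.card_eq_fintype_card, card_M, ip,
    Fintype.sum_equiv e.toEquiv _ (fun x => ((θ x * η x : ℤ) : ℂ)) (fun h => by simp [pull])]
  push_cast
  ring

section TI

variable (hTI : ∀ x : H, x * x ≠ 1 → ∀ y : G, y * (x : G) * y⁻¹ ∈ H → y ∈ H)

/-- The induced function. -/
noncomputable def up (θ : M → ℤ) : G → ℂ := indFun H (pull H e θ)

omit [Fintype G] in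
theorem small_zero {θ : M → ℤ} (hθ : ∀ x : M, x * x = 1 → θ x = 0) {h : H} (hh : h * h = 1) :
    pull H e θ h = 0 := by
  simp only [pull]
  rw [hθ _ (by rw [← map_mul, hh, map_one]), Int.cast_zero]

include hTI in
theorem up_apply {θ : M → ℤ} (hcl : IsClassFunction H (pull H e θ)) {h : H} (hh : h * h ≠ 1) :
    up e θ (h : G) = pull H e θ h := by
  classical
  have key : ∀ x : G, extendByZero H (pull H e θ) (x⁻¹ * (h : G) * x) =
      if x ∈ H then pull H e θ h else 0 := by
    intro x
    split_ifs with hx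
    · rw [Char.extendByZero_of_mem H _ (mul_mem (mul_mem (inv_mem hx) h.2) hx),
        ← hcl h ⟨x⁻¹, inv_mem hx⟩]
      exact congrArg _ (Subtype.ext (by simp))
    · refine Char.extendByZero_of_not_mem H _ fun hm => hx ?_
      have := hTI h hh x⁻¹ (by simpa using hm)
      simpa using this
  rw [up, Char.indFun_apply, Finset.sum_congr rfl fun x _ => key x, ← Finset.sum_filter,
    Finset.sum_const, nsmul_eq_mul, ← Fintype.card_subtype, ← Nat.card_eq_fintype_card, ← mul_assoc]
  rw [inv_mul_cancel₀ (Nat.cast_ne_zero.2 Nat.card_pos.ne'), one_mul]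

include hTI in
theorem classInner_up [Fintype H] {θ η : M → ℤ} (hθ : ∀ x : M, x * x = 1 → θ x = 0)
    (hη : IsClassFunction H (pull H e η)) :
    classInner (up e θ) (up e η) = (ip θ η : ℂ) / 108 := by
  simp only [up]
  rw [Char.classInner_indFun_left H _ (Char.isClassFunction_indFun H _), ← classInner_pull e]
  simp only [classInner]
  congr 1
  refine Finset.sum_congr rfl fun h _ => ?_
  by_cases hh : h * h = 1
  · rw [small_zero e hθ hh, zero_mul, zero_mul]
  · have h1 := up_apply e hTI hη hh
    simp only [up] at h1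
    rw [h1]

theorem classInner_up_one [Fintype H] (θ : M → ℤ) :
    classInner (up e θ) (fun _ => 1) = (ip θ (fun _ => 1) : ℂ) / 108 := by
  rw [up, Char.classInner_indFun_left H _ (fun _ _ => rfl), ← classInner_pull e]
  congr 1
  funext h
  simp [pull]

/-- The involutions of `G`. -/
noncomputable def invG (G : Type u) [Group G] [Fintype G] : Finset G :=
  haveI := Classical.decEq G
  Finset.univ.filter fun x => x * x = 1 ∧ x ≠ 1

theorem mem_invG {x : G} : x ∈ invG G ↔ x * x = 1 ∧ x ≠ 1 := by simp [invG]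

theorem invG_conj (a : G) (u : G) (hu : u ∈ invG G) : a * u * a⁻¹ ∈ invG G := by
  rw [mem_invG] at hu ⊢
  exact ⟨by rw [show a * u * a⁻¹ * (a * u * a⁻¹) = a * (u * u) * a⁻¹ by group, hu.1]; group,
    fun h => hu.2 (conj_eq_one_iff.1 h)⟩

theorem sumI_up {θ : M → ℤ} (hθ : ∀ x : M, x * x = 1 → θ x = 0) :
    sumI (invG G) (up e θ) = 0 := by
  refine Finset.sum_eq_zero fun u hu => ?_
  rw [up, Char.indFun_apply, Finset.sum_eq_zero, mul_zero]
  intro x _
  by_cases hx : x⁻¹ * u * x ∈ H
  · rw [Char.extendByZero_of_mem H _ hx]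
    refine small_zero e hθ (Subtype.ext ?_)
    have := (mem_invG.1 (invG_conj x⁻¹ u hu)).1
    simpa using this
  · exact Char.extendByZero_of_not_mem H _ hx

include hTI in
theorem sumII_up {θ : M → ℤ} (hθ : ∀ x : M, x * x = 1 → θ x = 0) :
    sumII (invG G) (up e θ) = (H.index : ℂ) * (pairs θ : ℂ) := by
  classical
  set X : G → ℂ := extendByZero H (pull H e θ) with hX
  have key : ∀ x : G, ∑ u ∈ invG G, ∑ v ∈ invG G, X (x⁻¹ * (u * v) * x) =
      ∑ u ∈ invG G, ∑ v ∈ invG G, X (u * v) := by
    intro x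
    refine Finset.sum_nbij' (fun u => x⁻¹ * u * x) (fun u => x * u * x⁻¹)
      (fun u hu => by simpa using invG_conj x⁻¹ u hu) (fun u hu => invG_conj x u hu)
      (fun u _ => by simp [mul_assoc]) (fun u _ => by simp [mul_assoc]) fun u _ => ?_
    refine Finset.sum_nbij' (fun u => x⁻¹ * u * x) (fun u => x * u * x⁻¹)
      (fun u hu => by simpa using invG_conj x⁻¹ u hu) (fun u hu => invG_conj x u hu)
      (fun u _ => by simp [mul_assoc]) (fun u _ => by simp [mul_assoc]) fun v _ => ?_
    exact congrArg X (by group)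
  have hin : ∀ u ∈ invG G, ∀ v ∈ invG G, X (u * v) ≠ 0 → u ∈ H ∧ v ∈ H := by
    intro u hu v hv hne
    have hm : u * v ∈ H := by
      by_contra hm
      exact hne (Char.extendByZero_of_not_mem H _ hm)
    have hh : (⟨u * v, hm⟩ : H) * ⟨u * v, hm⟩ ≠ 1 := fun h => hne (by
      rw [hX, Char.extendByZero_of_mem H _ hm]; exact small_zero e hθ h)
    have hu1 := (mem_invG.1 hu).1
    have hv1 := (mem_invG.1 hv).1
    have huH : u ∈ H := hTI _ hh u (by
      have : u * (u * v) * u⁻¹ = (u * v)⁻¹ := by
        rw [mul_inv_rev, inv_eq_of_mul_eq_one_right hv1, ← mul_assoc u u v, hu1, one_mul]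
      show u * (u * v) * u⁻¹ ∈ H
      rw [this]
      exact inv_mem hm)
    exact ⟨huH, by simpa using mul_mem (inv_mem huH) hm⟩
  have hsum : ∑ u ∈ invG G, ∑ v ∈ invG G, X (u * v) = (pairs θ : ℂ) := by
    let f : M ↪ G := ⟨fun m => (e.symm m : G), fun a b h => e.symm.injective (Subtype.ext h)⟩
    have hmem : ∀ g : G, g ∈ invs.map f ↔ g ∈ invG G ∧ g ∈ H := by
      intro g
      rw [Finset.mem_map]
      constructor
      · rintro ⟨m, hm, rfl⟩
        simp only [invs, Finset.mem_filter, Finset.mem_univ, true_and] at hm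
        refine ⟨mem_invG.2 ⟨?_, fun h => hm.2 ?_⟩, (e.symm m).2⟩
        · show ((e.symm m : H) : G) * (e.symm m : H) = 1
          rw [← Subgroup.coe_mul, ← map_mul, hm.1, map_one, Subgroup.coe_one]
        · exact e.symm.injective (by rw [map_one]; exact Subtype.ext h)
      · rintro ⟨hg, hgH⟩
        refine ⟨e ⟨g, hgH⟩, ?_, show ((e.symm (e ⟨g, hgH⟩) : H) : G) = g by rw [e.symm_apply_apply]⟩
        simp only [invs, Finset.mem_filter, Finset.mem_univ, true_and]
        rw [mem_invG] at hg
        refine ⟨by rw [← map_mul]; exact (congrArg e (Subtype.ext hg.1)).trans (map_one e), fun h => hg.2 ?_⟩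
        exact congrArg Subtype.val (e.injective (h.trans (map_one e).symm))
    have hsub : invs.map f ⊆ invG G := fun g hg => ((hmem g).1 hg).1
    rw [← Finset.sum_subset hsub (fun u hu hu' => Finset.sum_eq_zero fun v hv =>
      by_contra fun h => hu' ((hmem u).2 ⟨hu, (hin u hu v hv h).1⟩)), Finset.sum_map, pairs,
      Int.cast_sum]
    refine Finset.sum_congr rfl fun m hm => ?_
    rw [← Finset.sum_subset hsub (fun v hv hv' => by_contra fun h => hv' ((hmem v).2
      ⟨hv, (hin _ (hsub (Finset.mem_map_of_mem f hm)) v hv h).2⟩)), Finset.sum_map, Int.cast_sum]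
    refine Finset.sum_congr rfl fun n _ => ?_
    rw [hX, show f m * f n = ((e.symm (m * n) : H) : G) by rw [map_mul]; rfl, Char.extendByZero_coe]
    simp [pull]
  have hidx : (Fintype.card G : ℂ) = (Nat.card H : ℂ) * (H.index : ℂ) := by
    rw [← Nat.card_eq_fintype_card, ← Subgroup.card_mul_index H, Nat.cast_mul]
  simp only [sumII, up, Char.indFun_apply, ← Finset.mul_sum]
  rw [Finset.sum_congr rfl fun u _ => Finset.sum_comm, Finset.sum_comm]
  rw [Finset.sum_congr rfl fun x _ => (key x).trans hsum, Finset.sum_const, Finset.card_univ,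
    nsmul_eq_mul, hidx]
  rw [← mul_assoc, ← mul_assoc, inv_mul_cancel₀ (Nat.cast_ne_zero.2 Nat.card_pos.ne'), one_mul]

end TI

include e in
/-- **The group has no proper extension.** -/
theorem eq_top_of_model (T : Subgroup G) (hTH : T ≤ H) (hT : Nat.card T = 27)
    (hN : Subgroup.normalizer (T : Set G) = H)
    (hC : ∀ t ∈ T, t ≠ 1 → Subgroup.centralizer ({t} : Set G) ≤ H) : H = ⊤ := by
  classical
  -- `T` is the set of elements of exponent three of `H`
  have hcard : Nat.card H = 108 := by rw [Nat.card_congr e.toEquiv, Nat.card_eq_fintype_card, card_M]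
  have hTn : (T.subgroupOf H).Normal := hN ▸ Subgroup.normal_in_normalizer
  have hTi : (T.subgroupOf H).index = 4 := by
    have h := Subgroup.card_mul_index (T.subgroupOf H)
    rw [Nat.card_congr (Subgroup.subgroupOfEquivOfLe hTH).toEquiv, hT, hcard] at h
    omega
  have hmemT : ∀ x : H, (x : G) ∈ T ↔ x ^ 3 = 1 := by
    intro x
    constructor
    · intro hx
      have h27 : e x ^ 27 = 1 := by
        rw [← map_pow, show x ^ 27 = 1 from Subtype.ext (by
          have h := pow_card_eq_one' (x := (⟨(x : G), hx⟩ : T))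
          rw [hT] at h
          simpa using congrArg Subtype.val h), map_one]
      have h3 : e x ^ 3 = 1 := by
        have := (pow_gcd_eq_one (a := e x)).2 ⟨h27, pow_six (e x)⟩
        exact this
      exact e.injective (by rw [map_pow, h3, map_one])
    · intro hx
      have h1 := Subgroup.pow_index_mem (T.subgroupOf H) x
      rw [hTi, show x ^ 4 = x ^ 3 * x from pow_succ x 3, hx, one_mul] at h1
      exact h1
  have hTcomm : ∀ a ∈ T, ∀ b ∈ T, a * b = b * a := by
    intro a ha b hb
    have := e.symm.injective.eq_iff.2 (cube_comm (e ⟨a, hTH ha⟩) (e ⟨b, hTH hb⟩)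
      (by rw [← map_pow, (hmemT _).1 ha, map_one]) (by rw [← map_pow, (hmemT _).1 hb, map_one]))
    rw [map_mul, map_mul, e.symm_apply_apply, e.symm_apply_apply] at this
    exact congrArg Subtype.val this
  have hTIT : ∀ t ∈ T, t ≠ 1 → ∀ y : G, y * t * y⁻¹ ∈ T → y ∈ H := by
    intro t ht h1 y hy
    rw [← hN, Subgroup.mem_normalizer_iff]
    have hsub : ∀ a ∈ T, y * a * y⁻¹ ∈ T := by
      intro a ha
      have hm : y * a * y⁻¹ ∈ H := hC _ hy (fun h => h1 (conj_eq_one_iff.1 h)) (by
        rw [Subgroup.mem_centralizer_singleton_iff]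
        rw [show y * a * y⁻¹ * (y * t * y⁻¹) = y * (a * t) * y⁻¹ by group,
          show y * t * y⁻¹ * (y * a * y⁻¹) = y * (t * a) * y⁻¹ by group, hTcomm a ha t ht])
      refine (hmemT ⟨_, hm⟩).2 (Subtype.ext ?_)
      rw [Subgroup.coe_pow, conj_pow, show a ^ 3 = 1 from
        congrArg Subtype.val ((hmemT ⟨a, hTH ha⟩).1 ha)]
      simp
    have hmap : T.map (MulAut.conj y).toMonoidHom = T :=
      Subgroup.eq_of_le_of_card_ge (by rintro _ ⟨a, ha, rfl⟩; exact hsub a ha)
        (le_of_eq (Nat.card_congr (T.equivMapOfInjective _ (MulAut.conj y).injective).toEquiv))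
    intro a
    refine ⟨hsub a, fun ha => ?_⟩
    rw [← hmap] at ha
    obtain ⟨b, hb, hab⟩ := ha
    have : b = a := (MulAut.conj y).injective (by simpa using hab)
    exact this ▸ hb
  have hTI : ∀ x : H, x * x ≠ 1 → ∀ y : G, y * (x : G) * y⁻¹ ∈ H → y ∈ H := by
    intro x hx y hy
    have h6 : ∀ z : H, ((z * z : H) : G) ∈ T := fun z => (hmemT _).2 (e.injective (by
      rw [map_pow, map_one, map_mul, ← pow_two, ← pow_mul]; exact pow_six _))
    refine hTIT _ (h6 x) (fun h => hx (Subtype.ext h)) y ?_
    have := h6 ⟨_, hy⟩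
    simp only [Subgroup.coe_mul] at this ⊢
    rwa [show y * ((x : G) * x) * y⁻¹ = y * x * y⁻¹ * (y * x * y⁻¹) by group]
  haveI : Fintype H := Fintype.ofFinite H
  have gH : ∀ {θ : M → ℤ}, IsGeneralizedCharacter M (fun x => (θ x : ℂ)) →
      IsGeneralizedCharacter H (pull H e θ) := fun h => Char.isGeneralized_comp e.toMonoidHom h
  have za : ∀ i, ∀ x : M, x * x = 1 → alI i x = 0 := fun i x h => ((vanish_small x h).1 i).1
  have zo : ∀ i, ∀ x : M, x * x = 1 → omI i x = 0 := fun i x h => ((vanish_small x h).1 i).2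
  have zb : ∀ x : M, x * x = 1 → beI x = 0 := fun x h => (vanish_small x h).2
  have ca := fun i => Char.IsGen.isClassFunction (gH (isGen_al i))
  have co := fun i => Char.IsGen.isClassFunction (gH (isGen_om i))
  have cb := Char.IsGen.isClassFunction (gH isGen_be)
  have deg : ∀ {θ : M → ℤ}, (∀ x : M, x * x = 1 → θ x = 0) → up e θ 1 = 0 := by
    intro θ h
    rw [up, Char.indFun_apply_one, small_zero e h (mul_one 1), mul_zero]
  let D : Data (invG G) :=
    { v := fun i => up e (alI i)
      w := fun i => up e (omI i)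
      b := up e beI
      K := 324 * (H.index : ℂ)
      hK := mul_ne_zero (by norm_num) (Nat.cast_ne_zero.2 Subgroup.index_ne_zero_of_finite)
      gen_v := fun i => Char.isGeneralized_indFun H (gH (isGen_al i))
      gen_w := fun i => Char.isGeneralized_indFun H (gH (isGen_om i))
      gen_b := Char.isGeneralized_indFun H (gH isGen_be)
      vv := fun i j => by
        rw [classInner_up e hTI (za i) (ca j), ip_al]; split_ifs <;> norm_num
      ww := fun i j => by
        rw [classInner_up e hTI (zo i) (co j), ip_om]; split_ifs <;> norm_num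
      vw := fun i j => by
        rw [classInner_up e hTI (za i) (co j), ip_al_om]; split_ifs <;> norm_num
      v_one := fun i => by rw [classInner_up_one, ip_al_one]; norm_num
      w_one := fun i => by rw [classInner_up_one, ip_om_one]; norm_num
      b_one := by rw [classInner_up_one, ip_be_one]; norm_num
      bb := by rw [classInner_up e hTI zb cb, ip_be]; norm_num
      bv := fun i => by rw [classInner_up e hTI zb (ca i), ip_be_al]; split_ifs <;> norm_num
      bw := fun i => by rw [classInner_up e hTI zb (co i), ip_be_om]; split_ifs <;> norm_num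
      v_deg := fun i => deg (za i)
      w_deg := fun i => deg (zo i)
      b_deg := deg zb
      v_sum := fun i => sumI_up e (za i)
      w_sum := fun i => sumI_up e (zo i)
      b_sum := sumI_up e zb
      v_pairs := fun i => by rw [sumII_up e hTI (za i), pairs_al]; push_cast; ring
      w_pairs := fun i => by rw [sumII_up e hTI (zo i), pairs_om]; push_cast; ring
      b_pairs := by rw [sumII_up e hTI zb, pairs_be]; push_cast; ring }
  obtain ⟨A, hA, hAv⟩ := D.exists_linear (fun a u hu => invG_conj a u hu)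
  let μ : Fin 3 → G →* ℂˣ := fun i =>
    ({ toFun := A i, map_one' := (hA i).2,
       map_mul' := CharArith.linear_mul (Char.IsIrr.isCharacter (hA i).1) (hA i).2 } :
      G →* ℂ).toHomUnits
  have hμ : ∀ i g, (μ i g : ℂ) = A i g := fun i g => rfl
  have hres : ∀ i (m : M), (μ i (e.symm m : G) : ℂ) = (lam i m : ℂ) := by
    intro i
    have hrec : ∀ j, classInner (A i) (up e (alI j)) =
        (Nat.card H : ℂ)⁻¹ * ∑ m : M, A i (e.symm m : G) * (alI j m : ℂ) := by
      intro j
      rw [up, Char.classInner_indFun_right H _ (Char.isClassFunction_of_isIrr (hA i).1), classInner,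
        ← Fintype.sum_equiv e.symm.toEquiv (fun m => A i (e.symm m : G) * (alI j m : ℂ)) _
          (fun m => by simp [pull])]
    rcases hom_cases ((μ i).comp (H.subtype.comp e.symm.toMonoidHom)) with h | ⟨k, h⟩
    · exfalso
      obtain ⟨j, hj⟩ := other_one i
      have h1 := hAv i j
      rw [if_neg (Ne.symm hj), show D.v j = up e (alI j) from rfl, hrec, hcard,
        Finset.sum_congr rfl (fun m _ => by
          rw [show A i (e.symm m : G) = 1 from h m, one_mul])] at h1
      have h2 : ((∑ m : M, alI j m : ℤ) : ℂ) = 108 := by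
        have := ip_al_one j
        simp only [ip, mul_one] at this
        rw [this]; norm_num
      push_cast at h2
      rw [h2] at h1
      norm_num at h1
    · have hk : k = i := by
        by_contra hk
        have h1 := hAv i i
        rw [if_pos rfl, show D.v i = up e (alI i) from rfl, hrec, hcard,
          Finset.sum_congr rfl (fun m _ => by
            rw [show A i (e.symm m : G) = (lam k m : ℂ) from h m])] at h1
        have h2 : ((∑ m : M, lam k m * alI i m : ℤ) : ℂ) = 0 := by
          have := ip_lam_al k i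
          rw [if_neg hk] at this
          simp only [ip] at this
          rw [this]; norm_num
        push_cast at h2
        rw [h2, mul_zero] at h1
        exact zero_ne_one h1
      intro m
      exact (hk ▸ h m :)
  -- the kernel
  set K : Subgroup G := ⨅ i, (μ i).ker with hK
  haveI hKn : K.Normal := Subgroup.normal_iInf_normal fun i => MonoidHom.normal_ker _
  have hKH : ∀ x : G, x ∈ H → (x ∈ K ↔ x ∈ T) := by
    intro x hx
    rw [show x ∈ T ↔ _ from hmemT ⟨x, hx⟩, ← e.injective.eq_iff, map_pow, map_one, cube_iff,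
      hK, Subgroup.mem_iInf]
    refine forall_congr' fun i => ?_
    have := hres i (e ⟨x, hx⟩)
    rw [e.symm_apply_apply] at this
    rw [MonoidHom.mem_ker, ← Units.val_eq_one, show (μ i x : ℂ) = _ from this, Int.cast_eq_one]
  have hTK : T ≤ K := fun x hx => (hKH x (hTH hx)).2 hx
  have hTp : IsPGroup 3 T := IsPGroup.of_card (n := 3) (by rw [hT]; norm_num)
  haveI : Fact (Nat.Prime 3) := ⟨Nat.prime_three⟩
  have hTind : ¬ 3 ∣ T.index := by
    obtain ⟨P, hTP⟩ := hTp.exists_le_sylow
    have hTP' : T = (P : Subgroup G) := by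
      by_contra hne
      set N := Subgroup.normalizer ((T.subgroupOf (P : Subgroup G)) : Set (P : Subgroup G))
      have hlt : T.subgroupOf (P : Subgroup G) < ⊤ :=
        lt_top_iff_ne_top.2 fun h => hne (le_antisymm hTP (Subgroup.subgroupOf_eq_top.1 h))
      haveI := P.isPGroup'.isNilpotent
      have hnc := Group.normalizerCondition_of_isNilpotent _ hlt
      obtain ⟨y, hy, hy'⟩ := SetLike.exists_of_lt hnc
      have hyH : (y : G) ∈ H := by
        rw [← hN, Subgroup.mem_normalizer_iff]
        intro a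
        rw [Subgroup.mem_normalizer_iff] at hy
        constructor
        · intro ha
          exact (hy ⟨a, hTP ha⟩).1 ha
        · intro ha
          have hm : a ∈ (P : Subgroup G) := by
            have := mul_mem (mul_mem (inv_mem y.2) (hTP ha)) y.2
            rwa [show (y : G)⁻¹ * ((y : G) * a * (y : G)⁻¹) * y = a by group] at this
          exact (hy ⟨a, hm⟩).2 ha
      apply hy'
      rw [Subgroup.mem_subgroupOf, show (y : G) ∈ T ↔ _ from hmemT ⟨y, hyH⟩]
      obtain ⟨k, hk⟩ := P.isPGroup' y
      refine e.injective ?_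
      rw [map_pow, map_one]
      have h1 : e ⟨y, hyH⟩ ^ 3 ^ k = 1 := by
        rw [← map_pow, ← map_one e]
        exact congrArg e (Subtype.ext (by simpa using congrArg Subtype.val hk))
      have h2 := (pow_gcd_eq_one (a := e ⟨y, hyH⟩)).2 ⟨h1, pow_six (e ⟨y, hyH⟩)⟩
      have hd : Nat.gcd (3 ^ k) 6 ∣ 3 := by
        have h4 : Nat.Coprime (Nat.gcd (3 ^ k) 6) 2 :=
          Nat.Coprime.coprime_dvd_left (Nat.gcd_dvd_left _ _) (Nat.Coprime.pow_left k (by norm_num))
        exact h4.dvd_of_dvd_mul_right (Nat.gcd_dvd_right (3 ^ k) 6 : _ ∣ 3 * 2)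
      obtain ⟨j, hj⟩ := hd
      exact (congrArg (fun n : ℕ => e ⟨(y : G), hyH⟩ ^ n) hj).trans (by rw [pow_mul, h2, one_pow])
    rw [hTP']
    exact P.not_dvd_index
  have hTKind : ¬ 3 ∣ (T.subgroupOf K).index := fun h =>
    hTind (h.trans (Subgroup.relIndex_dvd_index_of_le hTK))
  let Q : Sylow 3 K := (IsPGroup.comap_subtype (hH := hTp) : IsPGroup 3 (T.subgroupOf K)).toSylow hTKind
  have hQ : Subgroup.normalizer ((Q : Subgroup K) : Set K) ≤
      Subgroup.centralizer ((Q : Subgroup K) : Set K) := by
    intro x hx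
    have hxH : (x : G) ∈ H := by
      rw [← hN, Subgroup.mem_normalizer_iff]
      intro a
      rw [Subgroup.mem_normalizer_iff] at hx
      constructor
      · intro ha; exact (hx ⟨a, hTK ha⟩).1 ha
      · intro ha
        have hm : a ∈ K := by
          have := hKn.conj_mem _ (hTK ha) (x : G)⁻¹
          rwa [show (x : G)⁻¹ * ((x : G) * a * (x : G)⁻¹) * (x : G)⁻¹⁻¹ = a by group] at this
        exact (hx ⟨a, hm⟩).2 ha
    have hxT := (hKH _ hxH).1 x.2
    rw [Subgroup.mem_centralizer_iff]
    intro y hy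
    exact Subtype.ext (hTcomm _ hy _ hxT)
  obtain ⟨kN, hkN, hcomp⟩ : ∃ kN : Subgroup K, kN.Normal ∧
      Subgroup.IsComplement' kN (T.subgroupOf K) :=
    ⟨_, MonoidHom.normal_ker _, MonoidHom.ker_transferSylow_isComplement' Q hQ⟩
  set N₀ : Subgroup G := kN.map K.subtype with hN₀
  have hN₀K : N₀ ≤ K := Subgroup.map_subtype_le _
  have hdisj : T ⊓ N₀ = ⊥ := by
    rw [eq_bot_iff]
    rintro x ⟨hxT, ⟨k, hk, rfl⟩⟩
    have : k ∈ kN ⊓ T.subgroupOf K := ⟨hk, hxT⟩
    rw [hcomp.disjoint.eq_bot, Subgroup.mem_bot] at this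
    simp [this]
  have hcardN : Nat.card N₀ = (T.subgroupOf K).index := by
    rw [hN₀, Subgroup.card_map_of_injective K.subtype_injective]
    exact hcomp.index_eq_card.symm
  have hnorm : T ≤ Subgroup.normalizer (N₀ : Set G) := by
    intro t ht
    rw [Subgroup.mem_normalizer_iff]
    intro a
    constructor
    · rintro ⟨k, hk, rfl⟩
      refine ⟨(⟨t, hTK ht⟩ : K) * k * (⟨t, hTK ht⟩ : K)⁻¹, hkN.conj_mem k hk _, ?_⟩
      simp
    · rintro ⟨k, hk, hka⟩
      refine ⟨(⟨t, hTK ht⟩ : K)⁻¹ * k * ⟨t, hTK ht⟩, ?_, ?_⟩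
      · have := hkN.conj_mem k hk (⟨t, hTK ht⟩ : K)⁻¹
        rwa [inv_inv] at this
      · simp only [map_mul, map_inv, hka]
        simp [mul_assoc]
  haveI : IsMulCommutative T := ⟨⟨fun a b => Subtype.ext (hTcomm _ a.2 _ b.2)⟩⟩
  have hTc : ¬ IsCyclic T := by
    intro hc
    obtain ⟨g, hg⟩ := hc.exists_generator
    have h27 : orderOf g = 27 := by
      rw [orderOf_eq_card_of_forall_mem_zpowers hg, hT]
    have h3 : g ^ 3 = 1 := Subtype.ext (by
      have := congrArg Subtype.val ((hmemT ⟨g, hTH g.2⟩).1 g.2)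
      simpa using this)
    have := orderOf_dvd_of_pow_eq_one h3
    rw [h27] at this
    norm_num at this
  have hcop : (Nat.card T).Coprime (Nat.card N₀) := by
    rw [hT, hcardN, show (27 : ℕ) = 3 ^ 3 by norm_num]
    exact Nat.Coprime.pow_left 3 ((Nat.Prime.coprime_iff_not_dvd Nat.prime_three).2 hTKind)
  have hbot : N₀ = ⊥ := by
    rw [← Coprime.iSup_centralizer_eq hTc hnorm hcop, eq_bot_iff]
    refine iSup₂_le fun t ht => ?_
    intro x hx
    have hxH := hC t ht.1 ht.2 hx.2
    exact hdisj.le ⟨(hKH x hxH).1 (hN₀K hx.1), hx.1⟩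
  have hKT : K = T := by
    refine le_antisymm ?_ hTK
    rw [← Subgroup.subgroupOf_eq_top, ← Subgroup.index_eq_one, ← hcardN, hbot, Subgroup.card_bot]
  rw [← hN, ← hKT]
  exact Subgroup.normalizer_eq_top K

end Cfsg.Agent.Char108
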