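import Cfsg.Agent.Char.Gen
import Mathlib.GroupTheory.SpecificGroups.Dihedral

/-!
# The group of order 108 in `S3 × S3 × S3` and some integer valued virtual characters
-/

set_option linter.style.haveILetI false

namespace Cfsg.Agent.Char108

/-- The symmetric group of degree three, as a dihedral group. -/
abbrev S3 := DihedralGroup 3

/-- The sign character, as a homomorphism to `ℤ`. -/
def sgn : S3 →* ℤ where
  toFun
    | .r _ => 1
    | .sr _ => -1
  map_one' := rfl
  map_mul' := by decide

/-- The character of degree two. -/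
def phi : S3 → ℤ
  | .r i => if i = 0 then 2 else -1
  | .sr _ => 0

/-- Triples. -/
abbrev Amb := S3 × S3 × S3

/-- The projections. -/
def proj : Fin 3 → Amb →* S3
  | 0 => MonoidHom.fst _ _
  | 1 => (MonoidHom.fst _ _).comp (MonoidHom.snd _ _)
  | 2 => (MonoidHom.snd _ _).comp (MonoidHom.snd _ _)

/-- Product of the three signs. -/
def parity : Amb →* ℤ :=
  (sgn.comp (proj 0)) * (sgn.comp (proj 1)) * (sgn.comp (proj 2))

/-- The group of order 108. -/
def M : Subgroup Amb where
  carrier := {x | parity x = 1}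
  one_mem' := map_one _
  mul_mem' {a b} ha hb := by
    simp only [Set.mem_setOf_eq] at ha hb ⊢
    rw [map_mul, ha, hb, mul_one]
  inv_mem' {a} ha := by
    simp only [Set.mem_setOf_eq] at ha ⊢
    have h := map_mul parity a a⁻¹
    rw [mul_inv_cancel, map_one, ha, one_mul] at h
    exact h.symm

instance : DecidablePred (· ∈ M) := fun x => decidable_of_iff (parity x = 1) Iff.rfl

/-- The sign characters. -/
def lam (i : Fin 3) (x : M) : ℤ := sgn (proj i x)

/-- The characters of degree two. -/
def ph (i : Fin 3) (x : M) : ℤ := phi (proj i x)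

def alI (i : Fin 3) (x : M) : ℤ := 1 + lam i x - ph i x

def omI (i : Fin 3) (x : M) : ℤ := lam (i + 1) x + lam (i + 2) x - ph i x * lam (i + 1) x

def beI (x : M) : ℤ := ph 0 x + ph 0 x * lam 1 x - ph 1 x * ph 2 x

/-- The unnormalised inner product of integer valued functions. -/
def ip (f g : M → ℤ) : ℤ := ∑ x : M, f x * g x

/-- The involutions of the model. -/
def invs : Finset M := Finset.univ.filter fun x => x * x = 1 ∧ x ≠ 1

/-- Sum over ordered pairs of involutions. -/
def pairs (f : M → ℤ) : ℤ := ∑ u ∈ invs, ∑ v ∈ invs, f (u * v)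

theorem card_M : Fintype.card M = 108 := by decide +kernel

theorem invs_card : invs.card = 27 := by decide +kernel

theorem ip_al : ∀ i j : Fin 3, ip (alI i) (alI j) = if i = j then 324 else 108 := by decide +kernel
theorem ip_om : ∀ i j : Fin 3, ip (omI i) (omI j) = if i = j then 324 else 108 := by decide +kernel
theorem ip_al_om : ∀ i j : Fin 3, ip (alI i) (omI j) = if i = j then 0 else 108 := by decide +kernel
theorem ip_al_one : ∀ i : Fin 3, ip (alI i) (fun _ => 1) = 108 := by decide +kernel
theorem ip_om_one : ∀ i : Fin 3, ip (omI i) (fun _ => 1) = 0 := by decide +kernel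
theorem ip_be_one : ip beI (fun _ => 1) = 0 := by decide +kernel
theorem ip_be : ip beI beI = 324 := by decide +kernel
theorem ip_be_al : ∀ i : Fin 3, ip beI (alI i) = if i = 0 then -108 else 0 := by decide +kernel
theorem ip_be_om : ∀ i : Fin 3, ip beI (omI i) = if i = 0 then -108 else 0 := by decide +kernel
theorem ip_lam_al : ∀ i j : Fin 3, ip (lam i) (alI j) = if i = j then 108 else 0 := by
  decide +kernel
theorem pairs_al : ∀ i : Fin 3, pairs (alI i) = 648 := by decide +kernel
theorem pairs_om : ∀ i : Fin 3, pairs (omI i) = 0 := by decide +kernel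
theorem pairs_be : pairs beI = 324 := by decide +kernel

theorem vanish_small : ∀ x : M, x * x = 1 →
    (∀ i : Fin 3, alI i x = 0 ∧ omI i x = 0) ∧ beI x = 0 := by decide +kernel

theorem pow_six : ∀ x : M, x ^ 6 = 1 := by decide +kernel

theorem cube_iff : ∀ x : M, x ^ 3 = 1 ↔ ∀ i, lam i x = 1 := by decide +kernel

theorem sgn_comm : ∀ a b : S3, sgn a = 1 → sgn b = 1 → a * b = b * a := by decide +kernel

theorem cube_comm (x y : M) (hx : x ^ 3 = 1) (hy : y ^ 3 = 1) : x * y = y * x := by
  have hx' := (cube_iff x).1 hx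
  have hy' := (cube_iff y).1 hy
  exact Subtype.ext (Prod.ext (sgn_comm _ _ (hx' 0) (hy' 0))
    (Prod.ext (sgn_comm _ _ (hx' 1) (hy' 1)) (sgn_comm _ _ (hx' 2) (hy' 2))))

/-- A rotation in the first factor. -/
def ga : M := ⟨(.r 1, 1, 1), by decide⟩
def gb : M := ⟨(1, .r 1, 1), by decide⟩
def gc : M := ⟨(1, 1, .r 1), by decide⟩
def gd : M := ⟨(.sr 0, .sr 0, 1), by decide⟩
def ge : M := ⟨(.sr 0, 1, .sr 0), by decide⟩

def idx : S3 → ℕ
  | .r i => i.val
  | .sr i => (-i).val

def flag : S3 → ℕ
  | .r _ => 0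
  | .sr _ => 1

theorem normal_form : ∀ x : M, x = ga ^ idx x.1.1 * gb ^ idx x.1.2.1 * gc ^ idx x.1.2.2 *
    gd ^ flag x.1.2.1 * ge ^ flag x.1.2.2 := by decide +kernel

theorem inverted : gd * ga * gd⁻¹ = ga ^ 2 ∧ gd * gb * gd⁻¹ = gb ^ 2 ∧ ge * gc * ge⁻¹ = gc ^ 2 ∧
    gd * gd = 1 ∧ ge * ge = 1 := by decide +kernel

theorem linear_values : ∀ x : M,
    lam 1 x = (-1) ^ flag x.1.2.1 ∧ lam 2 x = (-1) ^ flag x.1.2.2 ∧
    lam 0 x = (-1) ^ flag x.1.2.1 * (-1) ^ flag x.1.2.2 := by decide +kernel

/-- The linear characters of the model are the trivial one and the three sign characters. -/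
theorem hom_cases (μ : M →* ℂˣ) :
    (∀ x, (μ x : ℂ) = 1) ∨ ∃ i, ∀ x, (μ x : ℂ) = (lam i x : ℂ) := by
  obtain ⟨ha, hb, hc, hd, he⟩ := inverted
  have key : ∀ a d : M, d * a * d⁻¹ = a ^ 2 → μ a = 1 := by
    intro a d h
    have h1 := congrArg μ h
    rw [map_mul, map_mul, map_inv, mul_inv_cancel_comm, pow_two, map_mul] at h1
    exact mul_eq_left.1 h1.symm
  have h1 := key _ _ ha
  have h2 := key _ _ hb
  have h3 := key _ _ hc
  have hform : ∀ x : M, (μ x : ℂ) =
      (μ gd : ℂ) ^ flag x.1.2.1 * (μ ge : ℂ) ^ flag x.1.2.2 := by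
    intro x
    conv_lhs => rw [normal_form x]
    rw [map_mul, map_mul, map_mul, map_mul, map_pow, map_pow, map_pow, map_pow, map_pow, h1, h2, h3]
    simp
  have hd' : (μ gd : ℂ) = 1 ∨ (μ gd : ℂ) = -1 := by
    have h := congrArg (fun z => (μ z : ℂ)) hd
    simp only [map_mul, map_one, Units.val_mul, Units.val_one] at h
    exact mul_self_eq_one_iff.1 h
  have he' : (μ ge : ℂ) = 1 ∨ (μ ge : ℂ) = -1 := by
    have h := congrArg (fun z => (μ z : ℂ)) he
    simp only [map_mul, map_one, Units.val_mul, Units.val_one] at h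
    exact mul_self_eq_one_iff.1 h
  rcases hd' with d1 | d1 <;> rcases he' with e1 | e1
  · exact Or.inl fun x => by rw [hform, d1, e1, one_pow, one_pow, one_mul]
  · exact Or.inr ⟨2, fun x => by
      rw [hform, d1, e1, (linear_values x).2.1]; push_cast; rw [one_pow, one_mul]⟩
  · exact Or.inr ⟨1, fun x => by
      rw [hform, d1, e1, (linear_values x).1]; push_cast; rw [one_pow, mul_one]⟩
  · exact Or.inr ⟨0, fun x => by
      rw [hform, d1, e1, (linear_values x).2.2]; push_cast; rfl⟩

/-- The representation of degree two. -/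
def mat : S3 →* Matrix (Fin 2) (Fin 2) ℤ where
  toFun
    | .r i => !![0, -1; 1, -1] ^ i.val
    | .sr i => !![0, 1; 1, 0] * !![0, -1; 1, -1] ^ i.val
  map_one' := by decide
  map_mul' := by decide +kernel

theorem trace_mat : ∀ s : S3, (mat s).trace = phi s := by decide +kernel

theorem isCharacter_phi : IsCharacter S3 (fun s => (phi s : ℂ)) := by
  let R : Representation ℂ S3 (Fin 2 → ℂ) := ((Matrix.toLinAlgEquiv' :
    Matrix (Fin 2) (Fin 2) ℂ ≃ₐ[ℂ] _).toMonoidHom).comp
      (((Int.castRingHom ℂ).mapMatrix : Matrix (Fin 2) (Fin 2) ℤ →+* _).toMonoidHom.comp mat)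
  refine ⟨2, R, funext fun s => ?_⟩
  show LinearMap.trace ℂ _ (Matrix.toLin' ((mat s).map (Int.castRingHom ℂ))) = _
  rw [Matrix.trace_toLin'_eq, ← trace_mat]
  simp [Matrix.trace]

theorem isGen_lam (i : Fin 3) : IsGeneralizedCharacter M (fun x => (lam i x : ℂ)) := by
  let u : M →* ℂˣ := (((Int.castRingHom ℂ).toMonoidHom).comp
    ((sgn.comp (proj i)).comp M.subtype)).toHomUnits
  exact Char.isGeneralized_of_isCharacter (Char.isCharacter_hom u)

theorem isGen_ph (i : Fin 3) : IsGeneralizedCharacter M (fun x => (ph i x : ℂ)) :=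
  Char.isGeneralized_of_isCharacter (Char.isCharacter_comp ((proj i).comp M.subtype) isCharacter_phi)

theorem isGen_one : IsGeneralizedCharacter M (fun _ => (1 : ℂ)) :=
  Char.isGeneralized_of_isCharacter Char.isCharacter_one

theorem isGen_al (i : Fin 3) : IsGeneralizedCharacter M (fun x => (alI i x : ℂ)) := by
  have := Char.isGeneralized_sub (Char.isGeneralized_add isGen_one (isGen_lam i)) (isGen_ph i)
  convert this using 1
  funext x; simp [alI]

theorem isGen_om (i : Fin 3) : IsGeneralizedCharacter M (fun x => (omI i x : ℂ)) := by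
  have := Char.isGeneralized_sub (Char.isGeneralized_add (isGen_lam (i + 1)) (isGen_lam (i + 2)))
    (Char.isGeneralized_mul (isGen_ph i) (isGen_lam (i + 1)))
  convert this using 1
  funext x; simp [omI]

theorem isGen_be : IsGeneralizedCharacter M (fun x => (beI x : ℂ)) := by
  have := Char.isGeneralized_sub (Char.isGeneralized_add (isGen_ph 0)
    (Char.isGeneralized_mul (isGen_ph 0) (isGen_lam 1)))
    (Char.isGeneralized_mul (isGen_ph 1) (isGen_ph 2))
  convert this using 1
  funext x; simp [beI]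

end Cfsg.Agent.Char108
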